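import Groth.Agent.Lib.ConnDescent24.Core
import Groth.Agent.Lib.GeomIrr18.Scheme
import Groth.Agent.Lib.PtSet.Components
import Groth.Agent.Lib.EtStalk.FiniteBC

/-!
# Degree zero base change over a separably closed field
-/

universe u

open CategoryTheory CategoryTheory.Limits AlgebraicGeometry Opposite

set_option backward.isDefEq.respectTransparency.types false

namespace Groth.Agent.ConnDescent24

open Groth.Agent.EtStalk Groth.Agent.Gabber24

section Stalk

variable {k : Type u} [Field k] [IsSepClosed k]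

/-- Every germ over a separably closed field is the germ of a global section. -/
theorem exists_germ_top (G : EtCoh.Ab (Spec (CommRingCat.of k))) {Ω : Type u} [Field Ω] [IsSepClosed Ω]
    (ξ : Spec (CommRingCat.of Ω) ⟶ Spec (CommRingCat.of k)) (p : (EtCoh.stalk ξ).obj G) :
    ∃ s : G.obj.obj (op (EtCoh.top (Spec (CommRingCat.of k)))),
      germ ξ G (Over.homMk ξ (Category.comp_id _) : fib ξ (EtCoh.top (Spec (CommRingCat.of k)))) s = p := by
  obtain ⟨W, x, t, rfl⟩ := germ_surjective ξ G p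
  let a : Spec (CommRingCat.of Ω) ⟶ W.left := x.left
  have ha : a ≫ W.hom = ξ := Over.w x
  obtain ⟨c', hc'⟩ := Scheme.pointSmallEtaleFiberObjToPreimage_surjective (𝟙 (Spec (CommRingCat.of k)))
    (s₀ := (default : Spec (CommRingCat.of k))) rfl W ⟨a default, @Subsingleton.elim (Spec (CommRingCat.of k)) _ _ _⟩
  let c : Spec (CommRingCat.of k) ⟶ W.left := c'.left
  have hc : c ≫ W.hom = 𝟙 _ := Over.w c'
  have hcpt : c default = a default := congrArg Subtype.val hc'
  let cH : EtCoh.top (Spec (CommRingCat.of k)) ⟶ W := MorphismProperty.Over.homMk c hc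
  haveI : AlgebraicGeometry.Etale W.hom := W.prop
  haveI : AlgebraicGeometry.Etale (c ≫ W.hom) := by rw [hc]; infer_instance
  haveI : AlgebraicGeometry.Etale c := AlgebraicGeometry.Etale.of_comp c W.hom
  haveI : IsSplitMono c := ⟨⟨⟨W.hom, hc⟩⟩⟩
  haveI : IsOpenImmersion c := IsOpenImmersion.of_flat_of_mono c
  let l := IsOpenImmersion.lift c a (by
    rintro _ ⟨y, rfl⟩
    exact ⟨default, by rw [hcpt, Subsingleton.elim y default]⟩)
  have hl : l ≫ c = a := IsOpenImmersion.lift_fac _ _ _
  have hlξ : l = ξ := by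
    rw [← ha, ← hl, Category.assoc, hc, Category.comp_id]
  refine ⟨G.obj.map cH.op t, ?_⟩
  rw [germ_map]
  refine congrArg (fun z => germ ξ G z t) (Over.OverMorphism.ext ?_)
  show ξ ≫ c = a
  rw [← hlξ, hl]

end Stalk

variable {k : Type u} [Field k] [IsSepClosed k] {X Y T : Scheme.{u}} (f : X ⟶ Spec (CommRingCat.of k))
  (g : T ⟶ Spec (CommRingCat.of k)) (h : Y ⟶ X) (e : Y ⟶ T) (hc : IsPullback e h g f) (F : EtCoh.Ab T)

/-- The pullback of a global section of `g_* F`. -/
noncomputable def pb (s : ((EtCoh.push g).obj F).obj.obj (op (EtCoh.top (Spec (CommRingCat.of k))))) :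
    ((EtCoh.pull e).obj F).obj.obj (op ((EtCoh.bc h).obj ((EtCoh.bc f).obj (EtCoh.top (Spec (CommRingCat.of k)))))) :=
  ((EtCoh.pull e).obj F).obj.map (sqHom g f h e hc.w (EtCoh.top (Spec (CommRingCat.of k)))).op
    (((EtCoh.pullPushAdj e).unit.app F).hom.app (op ((EtCoh.bc g).obj (EtCoh.top (Spec (CommRingCat.of k))))) s)

theorem isIso_baseChange0_sepClosed [QuasiCompact g] : IsIso (EtCoh.baseChange0 g f h e hc.w F) := by
  let S := Spec (CommRingCat.of k)
  let P := (EtCoh.pull e).obj F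
  let Q := (EtCoh.push h).obj P
  let U₀ := (EtCoh.bc f).obj (EtCoh.top S)
  haveI : IsIso U₀.hom := by
    show IsIso (pullback.snd (𝟙 S) f)
    infer_instance
  -- the map on stalks, on germs of global sections
  have hgerm : ∀ (Ω : Type u) [Field Ω] [IsSepClosed Ω] (ξ : Spec (CommRingCat.of Ω) ⟶ X)
      (s : ((EtCoh.push g).obj F).obj.obj (op (EtCoh.top S))),
      (EtCoh.stalk ξ).map (EtCoh.baseChange0 g f h e hc.w F)
        (stalkPull f ξ ((EtCoh.push g).obj F) (germ (ξ ≫ f) _ (Over.homMk (ξ ≫ f) (Category.comp_id _) : fib (ξ ≫ f) (EtCoh.top S)) s)) =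
      germ ξ Q (liftFib f ξ (Over.homMk (ξ ≫ f) (Category.comp_id _) : fib (ξ ≫ f) (EtCoh.top S))) (pb f g h e hc F s) := by
    intro Ω _ _ ξ s
    rw [germ_stalkPull, germ_nat, baseChange0_germ]
    rfl
  rw [isIso_iff_stalk]
  intro Ω _ _ ξ
  let x₀ : fib (ξ ≫ f) (EtCoh.top S) := Over.homMk (ξ ≫ f) (Category.comp_id _)
  have hb := ConcreteCategory.bijective_of_isIso (stalkPull f ξ ((EtCoh.push g).obj F))
  constructor
  · refine (injective_iff_map_eq_zero ((EtCoh.stalk ξ).map (EtCoh.baseChange0 g f h e hc.w F)).hom).2 fun p hp => ?_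
    obtain ⟨p', rfl⟩ := hb.2 p
    obtain ⟨s, rfl⟩ := exists_germ_top ((EtCoh.push g).obj F) (ξ ≫ f) p'
    replace hp : germ ξ Q (liftFib f ξ x₀) (pb f g h e hc F s) = germ ξ Q (liftFib f ξ x₀) 0 :=
      ((hgerm Ω ξ s).symm.trans hp).trans (map_zero _).symm
    obtain ⟨V, m, y, -, hV⟩ := (germ_eq_iff ξ Q _ _ _).1 hp
    suffices h0 : s = 0 by rw [h0, map_zero, map_zero]
    refine eq_of_agree F (U := (EtCoh.bc g).obj (EtCoh.top S)) fun a => ?_
    let yl : Spec (CommRingCat.of Ω) ⟶ V.left := y.left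
    obtain ⟨y₀, hy₁, hy₂⟩ := Scheme.exists_preimage_of_isPullback hc
      (((EtCoh.bc g).obj (EtCoh.top S)).hom a) (V.hom (yl default)) (@Subsingleton.elim (Spec (CommRingCat.of k)) _ _ _)
    obtain ⟨w, hw₁, hw₂⟩ : ∃ w : ((EtCoh.bc h).obj V).left, bcFst h V w = yl default ∧ ((EtCoh.bc h).obj V).hom w = y₀ :=
      Scheme.Pullback.exists_preimage_pullback (f := V.hom) (g := h) (yl default) y₀ hy₂.symm
    have hw : w ∈ agree P (P.obj.map ((EtCoh.bc h).map m).op (pb f g h e hc F s))
        (P.obj.map ((EtCoh.bc h).map m).op 0) := by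
      rw [show P.obj.map ((EtCoh.bc h).map m).op (pb f g h e hc F s) = _ from hV]
      exact agree_self P _ _
    rw [mem_agree_map] at hw
    rw [show (0 : P.obj.obj (op ((EtCoh.bc h).obj U₀))) =
      P.obj.map (sqHom g f h e hc.w (EtCoh.top S)).op
        (((EtCoh.pullPushAdj e).unit.app F).hom.app (op ((EtCoh.bc g).obj (EtCoh.top S))) 0) by
        erw [map_zero, map_zero]] at hw
    rw [pb, mem_agree_map, mem_agree_unit] at hw
    have he : bcFst e ((EtCoh.bc g).obj (EtCoh.top S))
        ((sqHom g f h e hc.w (EtCoh.top S)).left (((EtCoh.bc h).map m).left w)) = a := by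
      haveI : IsIso ((EtCoh.bc g).obj (EtCoh.top S)).hom := by
        show IsIso (pullback.snd (𝟙 S) g)
        infer_instance
      apply ((EtCoh.bc g).obj (EtCoh.top S)).hom.homeomorph.injective
      show ((EtCoh.bc g).obj (EtCoh.top S)).hom _ = ((EtCoh.bc g).obj (EtCoh.top S)).hom a
      rw [← hy₁, ← hw₂]
      have h1 : ((EtCoh.bc e).obj ((EtCoh.bc g).obj (EtCoh.top S))).hom ≫ e =
          bcFst e ((EtCoh.bc g).obj (EtCoh.top S)) ≫ ((EtCoh.bc g).obj (EtCoh.top S)).hom :=
        pullback.condition.symm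
      have h2 : (sqHom g f h e hc.w (EtCoh.top S)).left ≫ ((EtCoh.bc e).obj ((EtCoh.bc g).obj (EtCoh.top S))).hom =
          ((EtCoh.bc h).obj U₀).hom := MorphismProperty.Over.w _
      have h3 : ((EtCoh.bc h).map m).left ≫ ((EtCoh.bc h).obj U₀).hom = ((EtCoh.bc h).obj V).hom :=
        MorphismProperty.Over.w _
      have key : ((EtCoh.bc h).map m).left ≫ (sqHom g f h e hc.w (EtCoh.top S)).left ≫
          bcFst e ((EtCoh.bc g).obj (EtCoh.top S)) ≫ ((EtCoh.bc g).obj (EtCoh.top S)).hom =
          ((EtCoh.bc h).obj V).hom ≫ e := by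
        rw [← h1, ← Category.assoc (sqHom g f h e hc.w (EtCoh.top S)).left, h2, ← Category.assoc _ _ e, h3]
      have k' := congrArg (fun t : ((EtCoh.bc h).obj V).left ⟶ T => t w) key
      simp only [Scheme.Hom.comp_apply] at k'
      exact k'
    exact he ▸ hw
  · intro p
    obtain ⟨V, y, σ, rfl⟩ := germ_surjective ξ Q p
    -- shrink to an affine neighbourhood
    let yl : Spec (CommRingCat.of Ω) ⟶ V.left := y.left
    obtain ⟨A₀, hA₀, hvA, -⟩ : ∃ A₀ : V.left.Opens, IsAffineOpen A₀ ∧ yl default ∈ A₀ ∧ (A₀ : Set V.left) ⊆ Set.univ :=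
      exists_isAffineOpen_mem_and_subset (U := (⊤ : V.left.Opens)) trivial
    let V' := EtSite.sub V A₀
    let y'l₀ : Spec (CommRingCat.of Ω) ⟶ A₀.toScheme := IsOpenImmersion.lift A₀.ι yl (by
      rw [Scheme.Opens.range_ι]; rintro _ ⟨z, rfl⟩; rw [Subsingleton.elim z default]; exact hvA)
    have hy'l₀ : y'l₀ ≫ A₀.ι = yl := IsOpenImmersion.lift_fac _ _ _
    let y'l : Spec (CommRingCat.of Ω) ⟶ V'.left := y'l₀
    have hy'l : y'l ≫ A₀.ι = yl := hy'l₀
    let y' : fib ξ V' := Over.homMk y'l (by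
      show y'l ≫ A₀.ι ≫ V.hom = ξ
      rw [← Category.assoc, hy'l]
      exact Over.w y)
    let σ' := Q.obj.map (EtSite.subHom V A₀).op σ
    have hσ' : germ ξ Q y' σ' = germ ξ Q y σ := by
      rw [germ_map]
      exact congrArg (fun z => germ ξ Q z σ) (Over.OverMorphism.ext hy'l)
    rw [← hσ']
    clear_value σ'
    -- the connected component of the point
    haveI : CompactSpace V'.left := isCompact_iff_compactSpace.1 hA₀.isCompact
    haveI : IsAffine V'.left := hA₀
    let v := y'l default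
    let J := Scheme.IdealSheafData.vanishingIdeal
      (⟨connectedComponent v, isClosed_connectedComponent⟩ : TopologicalSpace.Closeds V'.left)
    let ι : J.subscheme ⟶ V'.left := J.subschemeι
    have hι : Set.range ι = connectedComponent v := by
      rw [Scheme.IdealSheafData.range_subschemeι, Scheme.IdealSheafData.coe_support_vanishingIdeal]
      rfl
    haveI : ConnectedSpace J.subscheme := by
      rw [connectedSpace_iff_univ]
      refine ⟨?_, ?_⟩
      · obtain ⟨d, -⟩ := hι.ge (mem_connectedComponent (x := v))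
        exact ⟨d, trivial⟩
      · rw [← ι.isClosedEmbedding.isEmbedding.isInducing.isPreconnected_image, Set.image_univ, hι]
        exact isPreconnected_connectedComponent
    let U : Y.Etale := (EtCoh.bc h).obj V'
    let a : J.subscheme ⟶ Spec (CommRingCat.of k) := ι ≫ V'.hom ≫ f
    let W' := pullback g a
    have hl : pullback.fst g a ≫ g = (pullback.snd g a ≫ ι ≫ V'.hom) ≫ f := by
      rw [pullback.condition]; simp only [a, Category.assoc]
    let j : W' ⟶ U.left := pullback.lift (pullback.snd g a ≫ ι) (hc.lift (pullback.fst g a)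
      (pullback.snd g a ≫ ι ≫ V'.hom) hl) (by rw [Category.assoc, hc.lift_snd])
    have hje : j ≫ U.hom ≫ e = pullback.fst g a := by
      rw [← Category.assoc, show j ≫ U.hom = _ from pullback.lift_snd _ _ _, hc.lift_fst]
    haveI : GeometricallyConnected a := GeomIrr.geometricallyConnected_of_isSepClosed a
    haveI : GeometricallyConnected (j ≫ U.hom ≫ e) := by rw [hje]; infer_instance
    haveI : UniversallyOpen (j ≫ U.hom ≫ e) := by rw [hje]; infer_instance
    obtain ⟨s₀, hs₀⟩ := exists_section e F σ' j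
    let toT : (EtCoh.bc g).obj (EtCoh.top S) ⟶ EtCoh.top T :=
      MorphismProperty.Over.homMk ((EtCoh.bc g).obj (EtCoh.top S)).hom (Category.comp_id _)
    let s : ((EtCoh.push g).obj F).obj.obj (op (EtCoh.top S)) := F.obj.map toT.op s₀
    refine ⟨stalkPull f ξ ((EtCoh.push g).obj F) (germ (ξ ≫ f) _ x₀ s), (hgerm Ω ξ s).trans ?_⟩
    let toU₀ : V' ⟶ U₀ := MorphismProperty.Over.homMk (V'.hom ≫ inv U₀.hom) (by simp)
    let A : Set U.left := agree P (P.obj.map ((EtCoh.bc h).map toU₀).op (pb f g h e hc F s)) σ'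
    have hA : ∀ u : U.left, bcFst h V' u ∈ connectedComponent v → u ∈ A := by
      intro u hu
      obtain ⟨d, hd⟩ := hι.ge hu
      have hsq : IsPullback j (pullback.snd g a) (bcFst h V') ι := by
        refine IsPullback.of_right ?_ (pullback.lift_fst _ _ _)
          ((IsPullback.of_hasPullback V'.hom h).flip.paste_horiz hc)
        exact (congrArg (fun t => IsPullback t (pullback.snd g a) g a) hje).mpr (IsPullback.of_hasPullback g a)
      obtain ⟨w, hw₁, hw₂⟩ := Scheme.exists_preimage_of_isPullback hsq u d hd.symm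
      let z := geomPt W' w
      let l := z ≫ j
      let ζ := l ≫ U.hom
      let φ : fib ζ U := Over.homMk l rfl
      have hpt : fibPt φ = u := by
        show (z ≫ j) default = u
        rw [Scheme.Hom.comp_apply, geomPt_default, hw₁]
      rw [← hpt]
      refine (mem_agree_iff_germ P φ _ _).2 (Eq.trans ?_ (hs₀ _ z ζ rfl).symm)
      rw [germ_map, pb, germ_map]
      let T₀ := (EtCoh.bc g).obj (EtCoh.top S)
      let φ₁ := (Scheme.pointSmallEtale ζ).fiber.map (sqHom g f h e hc.w (EtCoh.top S))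
        ((Scheme.pointSmallEtale ζ).fiber.map ((EtCoh.bc h).map toU₀) φ)
      let l₁ : Spec (CommRingCat.of _) ⟶ ((EtCoh.bc e).obj T₀).left := φ₁.left
      have hl₁ : l₁ ≫ ((EtCoh.bc e).obj T₀).hom = ζ := Over.w φ₁
      have hn : (l₁ ≫ bcFst e T₀) ≫ T₀.hom = ζ ≫ e := by
        rw [← hl₁, Category.assoc, Category.assoc]
        exact congrArg (l₁ ≫ ·) pullback.condition
      refine (val_res e F ζ (l₁ ≫ bcFst e T₀) hn l₁ hl₁ rfl s).trans ?_
      exact congrArg _ (val_map F (ζ ≫ e) toT _ hn (ζ ≫ e) (Category.comp_id _) hn s₀)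
    -- a clopen neighbourhood on whose preimage the sections agree
    haveI : QuasiCompact (bcFst h V') := by
      haveI : QuasiCompact h := MorphismProperty.of_isPullback hc (inferInstance : QuasiCompact g)
      exact inferInstanceAs (QuasiCompact (pullback.fst V'.hom h))
    haveI : CompactSpace U.left := QuasiCompact.compactSpace_of_compactSpace (bcFst h V')
    let I : Type u := {Z : Set V'.left // IsClopen Z ∧ v ∈ Z}
    have hAo : IsOpen A := isOpen_agree _ _ _
    obtain ⟨t, ht⟩ := (hAo.isClosed_compl).isCompact.elim_finite_subfamily_closed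
      (fun Z : I => bcFst h V' ⁻¹' Z.1) (fun Z => Z.2.1.1.preimage (bcFst h V').continuous) (by
        rw [Set.eq_empty_iff_forall_notMem]
        rintro u ⟨hu, hu'⟩
        refine hu (hA u ?_)
        rw [PtSet.connectedComponent_eq_sInter_isClopen_qcqs]
        exact fun Z hZ => Set.mem_iInter.1 hu' ⟨Z, hZ⟩)
    let O : V'.left.Opens := ⟨⋂ Z ∈ t, Z.1, isOpen_biInter_finset fun Z _ => Z.2.1.2⟩
    have hvO : v ∈ O := Set.mem_iInter₂.2 fun Z _ => Z.2.2
    let V'' := EtSite.sub V' O
    let y''l₀ : Spec (CommRingCat.of Ω) ⟶ O.toScheme := IsOpenImmersion.lift O.ι y'l (by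
      rw [Scheme.Opens.range_ι]; rintro _ ⟨z, rfl⟩; rw [Subsingleton.elim z default]; exact hvO)
    have hy''l₀ : y''l₀ ≫ O.ι = y'l := IsOpenImmersion.lift_fac _ _ _
    let y''l : Spec (CommRingCat.of Ω) ⟶ V''.left := y''l₀
    have hy''l : y''l ≫ O.ι = y'l := hy''l₀
    let y'' : fib ξ V'' := Over.homMk y''l (by
      show y''l ≫ O.ι ≫ V'.hom = ξ
      rw [← Category.assoc, hy''l]
      exact Over.w y')
    have heq : P.obj.map ((EtCoh.bc h).map (EtSite.subHom V' O)).op
        (P.obj.map ((EtCoh.bc h).map toU₀).op (pb f g h e hc F s)) =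
        P.obj.map ((EtCoh.bc h).map (EtSite.subHom V' O)).op σ' := by
      refine eq_of_agree P fun u => (mem_agree_map P _ _ _ u).2 ?_
      by_contra hu
      refine Set.eq_empty_iff_forall_notMem.1 ht _ ⟨hu, Set.mem_iInter₂.2 fun Z hZ => ?_⟩
      show bcFst h V' (((EtCoh.bc h).map (EtSite.subHom V' O)).left u) ∈ Z.1
      have e2 : bcFst h V' (((EtCoh.bc h).map (EtSite.subHom V' O)).left u) = O.ι (bcFst h V'' u) :=
        (Scheme.Hom.comp_apply _ _ _).symm.trans ((congrArg (fun t => t.base u)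
          (EtCoh.isPullback_bc_map h (EtSite.subHom V' O)).w).trans (Scheme.Hom.comp_apply _ _ _))
      rw [e2]
      exact Set.mem_iInter₂.1 (bcFst h V'' u).2 Z hZ
    have h1 : germ ξ Q y'' (Q.obj.map (EtSite.subHom V' O).op (Q.obj.map toU₀.op (pb f g h e hc F s))) =
        germ ξ Q y'' (Q.obj.map (EtSite.subHom V' O).op σ') := congrArg (germ ξ Q y'') heq
    rw [germ_map, germ_map, germ_map] at h1
    refine Eq.trans ?_ (h1.trans ?_)
    · refine congrArg (fun z => germ ξ Q z (pb f g h e hc F s)) (Over.OverMorphism.ext ?_)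
      let L : Spec (CommRingCat.of Ω) ⟶ U₀.left := (liftFib f ξ x₀).left
      have hL : L ≫ U₀.hom = ξ := Over.w (liftFib f ξ x₀)
      show L = (y''l ≫ O.ι) ≫ V'.hom ≫ inv U₀.hom
      rw [hy''l, ← Category.assoc, show y'l ≫ V'.hom = ξ from Over.w y', ← hL]
      simp
    · exact congrArg (fun z => germ ξ Q z σ') (Over.OverMorphism.ext hy''l)

end Groth.Agent.ConnDescent24
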