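import Groth.Agent.Lib.Gabber24.Pieces
import Mathlib.AlgebraicGeometry.Geometrically.Connected
import Mathlib.AlgebraicGeometry.Morphisms.UniversallyOpen
import Mathlib.CategoryTheory.Sites.IsSheafFor

/-!
# Descent of sections along universally open maps with geometrically connected fibres

A section `σ` of `e⁻¹F` over an etale `U → W` comes, along any `j : W' → U` such that `W' → T` is
universally open with geometrically connected fibres, from a unique global section of `F`.
-/

universe u

open CategoryTheory CategoryTheory.Limits AlgebraicGeometry Opposite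

set_option backward.isDefEq.respectTransparency.types false

namespace Groth.Agent.ConnDescent24

open Groth.Agent.EtStalk Groth.Agent.Gabber24

variable {W T : Scheme.{u}} (e : W ⟶ T) (F : EtCoh.Ab T) {U : W.Etale}
  (σ : ((EtCoh.pull e).obj F).obj.obj (op U))

/-- The unit applied to a section. -/
noncomputable abbrev res {N : T.Etale} (s : F.obj.obj (op N)) :
    ((EtCoh.pull e).obj F).obj.obj (op ((EtCoh.bc e).obj N)) :=
  ((EtCoh.pullPushAdj e).unit.app F).hom.app (op N) s

/-- The germ of a restricted section. -/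
lemma val_res {Ω : Type u} [Field Ω] [IsSepClosed Ω] (ζ : Spec (CommRingCat.of Ω) ⟶ W) {N : T.Etale}
    (n : Spec (CommRingCat.of Ω) ⟶ N.left) (hn : n ≫ N.hom = ζ ≫ e)
    (l : Spec (CommRingCat.of Ω) ⟶ ((EtCoh.bc e).obj N).left) (hl : l ≫ ((EtCoh.bc e).obj N).hom = ζ)
    (hln : l ≫ bcFst e N = n) (s : F.obj.obj (op N)) :
    val ((EtCoh.pull e).obj F) ζ l hl (res e F s) = stalkPull e ζ F (val F (ζ ≫ e) n hn s) := by
  refine Eq.trans ?_ (germ_stalkPull e ζ F (Over.homMk n hn : fib (ζ ≫ e) N) s).symm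
  refine congrArg (fun x => germ ζ ((EtCoh.pull e).obj F) x (res e F s)) ?_
  exact Over.OverMorphism.ext (pullback.hom_ext (hln.trans (pullback.lift_fst _ _ _).symm)
    (hl.trans (pullback.lift_snd _ _ _).symm))

/-- The scheme on which `σ` and a section on `N` can be compared. -/
noncomputable abbrev cmpScheme (U : W.Etale) (N : T.Etale) : Scheme.{u} :=
  pullback (U.hom ≫ e) N.hom

/-- The map of the comparison scheme to the base change. -/
noncomputable def cmpMap (U : W.Etale) (N : T.Etale) : cmpScheme e U N ⟶ ((EtCoh.bc e).obj N).left :=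
  pullback.lift (pullback.snd (U.hom ≫ e) N.hom) (pullback.fst (U.hom ≫ e) N.hom ≫ U.hom) (by
    rw [Category.assoc]
    exact pullback.condition.symm)

lemma cmpMap_snd (U : W.Etale) (N : T.Etale) :
    cmpMap e U N ≫ ((EtCoh.bc e).obj N).hom = pullback.fst (U.hom ≫ e) N.hom ≫ U.hom :=
  pullback.lift_snd _ _ _

/-- Where `s` restricts to `σ`. -/
noncomputable def good {N : T.Etale} (s : F.obj.obj (op N)) : Set (cmpScheme e U N) :=
  same ((EtCoh.pull e).obj F) (a := pullback.fst (U.hom ≫ e) N.hom) (b := cmpMap e U N)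
    (q := pullback.fst (U.hom ≫ e) N.hom ≫ U.hom) rfl (cmpMap_snd e U N) σ (res e F s)

lemma isOpen_good {N : T.Etale} (s : F.obj.obj (op N)) : IsOpen (good e F σ s) := isOpen_same _ _ _ _ _

/-- The geometric criterion for the good locus. -/
lemma mem_good_iff {N : T.Etale} (s : F.obj.obj (op N)) {Ω : Type u} [Field Ω] [IsSepClosed Ω]
    (l : Spec (CommRingCat.of Ω) ⟶ cmpScheme e U N) (ζ : Spec (CommRingCat.of Ω) ⟶ W)
    (a : Spec (CommRingCat.of Ω) ⟶ U.left) (n : Spec (CommRingCat.of Ω) ⟶ N.left)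
    (ea : l ≫ pullback.fst (U.hom ≫ e) N.hom = a) (en : l ≫ pullback.snd (U.hom ≫ e) N.hom = n)
    (ha : a ≫ U.hom = ζ) (hn : n ≫ N.hom = ζ ≫ e) :
    l default ∈ good e F σ s ↔
      val ((EtCoh.pull e).obj F) ζ a ha σ = stalkPull e ζ F (val F (ζ ≫ e) n hn s) := by
  rw [good, mem_same_iff]
  have hb : (l ≫ cmpMap e U N) ≫ ((EtCoh.bc e).obj N).hom = ζ := by
    rw [Category.assoc, cmpMap_snd, ← Category.assoc, ea, ha]
  rw [val_congr' ((EtCoh.pull e).obj F) (ξ' := ζ) (by rw [← Category.assoc, ea, ha]) ea rfl (ha' := ha) (hb' := hb)]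
  rw [val_res e F ζ n hn (l ≫ cmpMap e U N) hb (by
    rw [Category.assoc, show cmpMap e U N ≫ bcFst e N = _ from pullback.lift_fst _ _ _, en])]

/-- Every point is in the good locus of some local section. -/
theorem exists_good (x : U.left) :
    ∃ (N : T.Etale) (s : F.obj.obj (op N)) (b : cmpScheme e U N),
      b ∈ good e F σ s ∧ pullback.fst (U.hom ≫ e) N.hom b = x := by
  obtain ⟨φ, hφ⟩ := exists_fib U x
  let ζ := geomPt W (U.hom x)
  obtain ⟨p, hp⟩ := (ConcreteCategory.bijective_of_isIso (stalkPull e ζ F)).2 (germ ζ _ φ σ)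
  obtain ⟨N, y, s, hs⟩ := germ_surjective (ζ ≫ e) F p
  let l : Spec (CommRingCat.of (SeparableClosure (W.residueField (U.hom x)))) ⟶ cmpScheme e U N :=
    pullback.lift φ.left y.left (by
      exact (Category.assoc _ _ _).symm.trans ((congrArg (· ≫ e) (Over.w φ)).trans (Over.w y).symm))
  refine ⟨N, s, l default, ?_, ?_⟩
  · rw [mem_good_iff e F σ s l ζ φ.left y.left (pullback.lift_fst _ _ _) (pullback.lift_snd _ _ _)
      (Over.w φ) (Over.w y)]
    have : val F (ζ ≫ e) y.left (Over.w y) s = p := hs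
    rw [this, hp]
    rfl
  · rw [← Scheme.Hom.comp_apply, pullback.lift_fst]
    exact hφ

variable {W' : Scheme.{u}} (j : W' ⟶ U.left)

/-- Points of `W'` together with `N`, inside the comparison scheme. -/
noncomputable def testMap (N : T.Etale) : pullback (j ≫ U.hom ≫ e) N.hom ⟶ cmpScheme e U N :=
  pullback.map _ _ _ _ j (𝟙 _) (𝟙 T) (by simp) (by simp)

lemma testMap_fst (N : T.Etale) :
    testMap e j N ≫ pullback.fst (U.hom ≫ e) N.hom = pullback.fst (j ≫ U.hom ≫ e) N.hom ≫ j :=
  pullback.lift_fst _ _ _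

lemma testMap_snd (N : T.Etale) :
    testMap e j N ≫ pullback.snd (U.hom ≫ e) N.hom = pullback.snd (j ≫ U.hom ≫ e) N.hom :=
  (pullback.lift_snd _ _ _).trans (Category.comp_id _)

variable [GeometricallyConnected (j ≫ U.hom ≫ e)]

/-- The good locus is saturated for the projection to `N`. -/
theorem good_saturated {N : T.Etale} (s : F.obj.obj (op N))
    (a a' : (pullback (j ≫ U.hom ≫ e) N.hom : Scheme.{u})) (ha : testMap e j N a ∈ good e F σ s)
    (h : pullback.snd (j ≫ U.hom ≫ e) N.hom a' = pullback.snd (j ≫ U.hom ≫ e) N.hom a) :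
    testMap e j N a' ∈ good e F σ s := by
  let v := pullback.snd (j ≫ U.hom ≫ e) N.hom a
  let K := SeparableClosure (N.left.residueField v)
  let vb : Spec (CommRingCat.of K) ⟶ N.left := geomPt N.left v
  let Φ := pullback (pullback.snd (j ≫ U.hom ≫ e) N.hom) vb
  haveI hΦ : ConnectedSpace Φ := GeometricallyConnected.geometrically_connectedSpace _ _ _
    (IsPullback.of_hasPullback (pullback.snd (j ≫ U.hom ≫ e) N.hom) vb)
  let π : Φ ⟶ pullback (j ≫ U.hom ≫ e) N.hom := pullback.fst (pullback.snd (j ≫ U.hom ≫ e) N.hom) vb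
  let κ : Φ ⟶ Spec (CommRingCat.of K) := pullback.snd (pullback.snd (j ≫ U.hom ≫ e) N.hom) vb
  have hπκ : π ≫ pullback.snd (j ≫ U.hom ≫ e) N.hom = κ ≫ vb := pullback.condition
  let G : Set Φ := (π ≫ testMap e j N) ⁻¹' good e F σ s
  have hG : IsOpen G := (isOpen_good e F σ s).preimage (π ≫ testMap e j N).continuous
  have hGc : IsOpen Gᶜ := by
    refine isOpen_iff_forall_mem_open.2 fun w hw => ?_
    let a₀ : Φ ⟶ U.left := π ≫ pullback.fst (j ≫ U.hom ≫ e) N.hom ≫ j
    have ha₀ : a₀ ≫ U.hom ≫ e = κ ≫ vb ≫ N.hom := by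
      simp only [a₀, Category.assoc]
      rw [pullback.condition, ← Category.assoc, hπκ, Category.assoc]
    obtain ⟨N', s', b, hb, hbw⟩ := exists_good e F σ (a₀ w)
    haveI : AlgebraicGeometry.Etale N'.hom := N'.prop
    obtain ⟨q, hq₁, hq₂⟩ := Scheme.Pullback.exists_preimage_pullback (f := a₀)
      (g := pullback.fst (U.hom ≫ e) N'.hom) w b hbw.symm
    let R := pullback (vb ≫ N.hom) N'.hom
    let p₀ := pullback.fst a₀ (pullback.fst (U.hom ≫ e) N'.hom)
    let p₁ := pullback.snd a₀ (pullback.fst (U.hom ≫ e) N'.hom)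
    let toR : pullback a₀ (pullback.fst (U.hom ≫ e) N'.hom) ⟶ R :=
      pullback.lift (p₀ ≫ κ) (p₁ ≫ pullback.snd (U.hom ≫ e) N'.hom) (by
        rw [Category.assoc, Category.assoc, ← ha₀, ← pullback.condition, pullback.condition_assoc])
    obtain ⟨c', hc'⟩ := Scheme.pointSmallEtaleFiberObjToPreimage_surjective (𝟙 (Spec (CommRingCat.of K)))
      (s₀ := (default : Spec (CommRingCat.of K))) rfl (Scheme.Etale.mk (pullback.fst (vb ≫ N.hom) N'.hom))
      ⟨toR q, @Subsingleton.elim (Spec (CommRingCat.of K)) _ _ _⟩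
    let fR := pullback.fst (vb ≫ N.hom) N'.hom
    let c : Spec (CommRingCat.of K) ⟶ R := c'.left
    have hc : c ≫ fR = 𝟙 _ := Over.w c'
    have hcr : c default = toR q := congrArg Subtype.val hc'
    let d : Spec (CommRingCat.of K) ⟶ N'.left := c ≫ pullback.snd (vb ≫ N.hom) N'.hom
    have hd : d ≫ N'.hom = vb ≫ N.hom := by
      rw [Category.assoc, ← pullback.condition, ← Category.assoc]
      erw [hc]
      rw [Category.id_comp]
    let l : Φ ⟶ cmpScheme e U N' := pullback.lift a₀ (κ ≫ d) (by rw [ha₀, Category.assoc, hd])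
    have hqw : l w = b := by
      haveI : AlgebraicGeometry.Etale (c ≫ fR) := by rw [hc]; infer_instance
      haveI : AlgebraicGeometry.Etale c := AlgebraicGeometry.Etale.of_comp c fR
      haveI : IsSplitMono c := ⟨⟨⟨fR, hc⟩⟩⟩
      haveI : IsOpenImmersion c := IsOpenImmersion.of_flat_of_mono c
      let z := geomPt _ q
      have hz : z default = q := geomPt_default q
      let t := IsOpenImmersion.lift c (z ≫ toR) (by
        rintro _ ⟨x, rfl⟩
        exact ⟨default, by rw [hcr, Scheme.Hom.comp_apply, Subsingleton.elim x default, hz]⟩)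
      have ht : t ≫ c = z ≫ toR := IsOpenImmersion.lift_fac _ _ _
      have ht' : t = z ≫ p₀ ≫ κ := by
        have h1 := congrArg (· ≫ fR) ht
        rw [Category.assoc, hc, Category.comp_id, Category.assoc] at h1
        exact h1.trans (congrArg (z ≫ ·) (pullback.lift_fst _ _ _))
      have hpts : z ≫ p₁ = (z ≫ p₀) ≫ l := by
        refine pullback.hom_ext ?_ ?_
        · simp only [Category.assoc, l, pullback.lift_fst, p₀, p₁]
          rw [pullback.condition]
        · have h2 := congrArg (· ≫ pullback.snd (vb ≫ N.hom) N'.hom) ht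
          simp only [Category.assoc, ht', toR, pullback.lift_snd] at h2
          simp only [Category.assoc, l, pullback.lift_snd]
          exact h2.symm
      have := congrArg (fun f => f.base default) hpts
      simp only [← hq₂, ← hq₁]
      rw [← hz, ← Scheme.Hom.comp_apply z, ← Scheme.Hom.comp_apply z, ← Scheme.Hom.comp_apply]
      exact this.symm
    let O : Set Φ := l ⁻¹' good e F σ s'
    let C : Set (Spec (CommRingCat.of K)) :=
      same F (a := vb) (b := d) (q := vb ≫ N.hom) rfl hd s s'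
    have key : ∀ w₁ ∈ O, (w₁ ∈ G ↔ κ w₁ ∈ C) := by
      intro w₁ hw₁
      let z := geomPt Φ w₁
      have hz : z default = w₁ := geomPt_default w₁
      let ζ := z ≫ a₀ ≫ U.hom
      have hn : (z ≫ κ ≫ vb) ≫ N.hom = ζ ≫ e := by
        simp only [ζ, Category.assoc]; rw [ha₀]
      have hn' : (z ≫ κ ≫ d) ≫ N'.hom = ζ ≫ e := by
        simp only [ζ, Category.assoc]; rw [ha₀, hd]
      have e1 : (z ≫ π ≫ testMap e j N) default = (π ≫ testMap e j N) w₁ := by
        rw [Scheme.Hom.comp_apply, hz]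
      have e2 : (z ≫ l) default = l w₁ := by rw [Scheme.Hom.comp_apply, hz]
      have h₂ := (mem_good_iff e F σ s' (z ≫ l) ζ (z ≫ a₀) (z ≫ κ ≫ d)
        (by rw [Category.assoc, pullback.lift_fst]) (by rw [Category.assoc, pullback.lift_snd])
        (Category.assoc _ _ _) hn').1 (by rw [e2]; exact hw₁)
      show (π ≫ testMap e j N) w₁ ∈ good e F σ s ↔ _
      rw [← e1, mem_good_iff e F σ s (z ≫ π ≫ testMap e j N) ζ (z ≫ a₀) (z ≫ κ ≫ vb)
        (by simp only [a₀, Category.assoc, testMap_fst]) (by simp only [Category.assoc, testMap_snd, hπκ])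
        (Category.assoc _ _ _) hn, h₂, (ConcreteCategory.bijective_of_isIso (stalkPull e ζ F)).1.eq_iff,
        eq_comm]
      rw [show κ w₁ = (z ≫ κ) default by rw [Scheme.Hom.comp_apply, hz], mem_same_iff]
      refine val_congr' F ?_ (Category.assoc _ _ _).symm (Category.assoc _ _ _).symm
      rw [← hn]; simp only [Category.assoc]
    refine ⟨O, fun w₁ hw₁ hG₁ => hw ?_, (isOpen_good e F σ s').preimage l.continuous,
      show l w ∈ good e F σ s' by rw [hqw]; exact hb⟩
    refine (key w (show l w ∈ good e F σ s' by rw [hqw]; exact hb)).2 ?_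
    rw [@Subsingleton.elim (Spec (CommRingCat.of K)) _ (κ w) (κ w₁)]
    exact (key w₁ hw₁).1 hG₁
  obtain ⟨x, hx, -⟩ := Scheme.Pullback.exists_preimage_pullback
    (f := pullback.snd (j ≫ U.hom ≫ e) N.hom) (g := vb) a default (geomPt_default v).symm
  obtain ⟨x', hx', -⟩ := Scheme.Pullback.exists_preimage_pullback
    (f := pullback.snd (j ≫ U.hom ≫ e) N.hom) (g := vb) a' default (h.trans (geomPt_default v).symm)
  have hall : G = Set.univ := (isClopen_iff.1 ⟨⟨hGc⟩, hG⟩).resolve_left
    (Set.nonempty_iff_ne_empty.1 ⟨x, show (π ≫ testMap e j N) x ∈ good e F σ s by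
      rw [Scheme.Hom.comp_apply, hx]; exact ha⟩)
  have hmem : (π ≫ testMap e j N) x' ∈ good e F σ s := hall.ge (Set.mem_univ x')
  rwa [Scheme.Hom.comp_apply, hx'] at hmem

set_option maxHeartbeats 400000 in
/-- A section along `j` comes from a global section, provided the base changes are quotient maps. -/
theorem exists_section_of_quotient
    (hq : ∀ N : T.Etale, Topology.IsQuotientMap (pullback.snd (j ≫ U.hom ≫ e) N.hom)) :
    ∃ s₀ : F.obj.obj (op (EtCoh.top T)), ∀ (Ω : Type u) [Field Ω] [IsSepClosed Ω]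
      (w : Spec (CommRingCat.of Ω) ⟶ W') (ζ : Spec (CommRingCat.of Ω) ⟶ W) (ha : (w ≫ j) ≫ U.hom = ζ),
      val ((EtCoh.pull e).obj F) ζ (w ≫ j) ha σ =
        stalkPull e ζ F (val F (ζ ≫ e) (ζ ≫ e) (Category.comp_id _) s₀) := by
  haveI : Surjective (j ≫ U.hom ≫ e) := inferInstance
  have hloc : ∀ t : T, ∃ (N : T.Etale) (s : F.obj.obj (op N)) (n : N.left), N.hom n = t ∧
      ∀ a, testMap e j N a ∈ good e F σ s := by
    intro t
    obtain ⟨w, hw⟩ := (inferInstance : Surjective (j ≫ U.hom ≫ e)).surj t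
    obtain ⟨N, s, b, hb, hbw⟩ := exists_good e F σ (j w)
    have hsq : IsPullback (testMap e j N) (pullback.fst (j ≫ U.hom ≫ e) N.hom)
        (pullback.fst (U.hom ≫ e) N.hom) j := by
      refine IsPullback.of_right ?_ (testMap_fst e j N) (IsPullback.of_hasPullback (U.hom ≫ e) N.hom).flip
      rw [testMap_snd]
      exact (IsPullback.of_hasPullback (j ≫ U.hom ≫ e) N.hom).flip
    obtain ⟨a, ha₂, ha₁⟩ := Scheme.exists_preimage_of_isPullback hsq b w hbw
    let p := pullback.snd (j ≫ U.hom ≫ e) N.hom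
    let O : N.left.Opens := ⟨p '' (testMap e j N ⁻¹' good e F σ s), (hq N).isOpen_preimage.1 (by
      rw [show p ⁻¹' (p '' (testMap e j N ⁻¹' good e F σ s)) = testMap e j N ⁻¹' good e F σ s from
        Set.Subset.antisymm (fun a' ⟨a₀, ha₀, h₀⟩ => good_saturated e F σ j s a₀ a' ha₀ h₀.symm)
          (Set.subset_preimage_image _ _)]
      exact (isOpen_good e F σ s).preimage (testMap e j N).continuous)⟩
    have hn : p a ∈ O := ⟨a, show testMap e j N a ∈ _ by rw [ha₂]; exact hb, rfl⟩
    refine ⟨EtSite.sub N O, F.obj.map (EtSite.subHom N O).op s, ⟨p a, hn⟩, ?_, fun a' => ?_⟩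
    · show (O.ι ≫ N.hom) ⟨p a, hn⟩ = t
      rw [Scheme.Hom.comp_apply, ← hw, ← ha₁, ← Scheme.Hom.comp_apply (pullback.fst _ _), pullback.condition]
      exact (Scheme.Hom.comp_apply _ _ _).symm
    · let m : pullback (j ≫ U.hom ≫ e) (EtSite.sub N O).hom ⟶ pullback (j ≫ U.hom ≫ e) N.hom :=
        pullback.lift (pullback.fst _ _) (pullback.snd _ _ ≫ O.ι) (by
          rw [Category.assoc]; exact pullback.condition)
      have hmem : testMap e j N (m a') ∈ good e F σ s := by
        obtain ⟨a₀, ha₀, ha₀'⟩ := (pullback.snd (j ≫ U.hom ≫ e) (EtSite.sub N O).hom a').2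
        refine good_saturated e F σ j s a₀ (m a') ha₀ ?_
        rw [ha₀', ← Scheme.Hom.comp_apply, pullback.lift_snd]
        exact Scheme.Hom.comp_apply _ _ _
      let z := geomPt _ a'
      have hz : z default = a' := geomPt_default a'
      let aU := z ≫ pullback.fst (j ≫ U.hom ≫ e) (EtSite.sub N O).hom ≫ j
      let nO := z ≫ pullback.snd (j ≫ U.hom ≫ e) (EtSite.sub N O).hom
      have hnO : nO ≫ (EtSite.sub N O).hom = (aU ≫ U.hom) ≫ e := by
        simp only [nO, aU, Category.assoc]; rw [pullback.condition]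
      have hnN : (nO ≫ O.ι) ≫ N.hom = (aU ≫ U.hom) ≫ e := (Category.assoc _ _ _).trans hnO
      rw [show testMap e j (EtSite.sub N O) a' = (z ≫ testMap e j (EtSite.sub N O)) default by
          rw [Scheme.Hom.comp_apply, hz],
        mem_good_iff e F σ _ _ (aU ≫ U.hom) aU nO (by simp only [aU, Category.assoc, testMap_fst])
          (by simp only [nO, Category.assoc, testMap_snd]) rfl hnO,
        val_map F _ (EtSite.subHom N O) nO hnO (nO ≫ O.ι) hnN rfl]
      refine (mem_good_iff e F σ s (z ≫ m ≫ testMap e j N) (aU ≫ U.hom) aU (nO ≫ O.ι) ?_ ?_ rfl hnN).1 ?_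
      · simp only [aU, m, Category.assoc, testMap_fst, pullback.lift_fst_assoc]
      · simp only [nO, m, Category.assoc, testMap_snd, pullback.lift_snd]
      · rw [Scheme.Hom.comp_apply, hz, Scheme.Hom.comp_apply]; exact hmem
  choose N s n hn hgood using hloc
  have hval : ∀ (x : T) (Ω : Type u) [Field Ω] [IsSepClosed Ω]
      (w : Spec (CommRingCat.of Ω) ⟶ W') (ζ : Spec (CommRingCat.of Ω) ⟶ W) (ha : (w ≫ j) ≫ U.hom = ζ)
      (m : Spec (CommRingCat.of Ω) ⟶ (N x).left) (hm : m ≫ (N x).hom = ζ ≫ e),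
      val ((EtCoh.pull e).obj F) ζ (w ≫ j) ha σ = stalkPull e ζ F (val F (ζ ≫ e) m hm (s x)) := by
    intro x Ω _ _ w ζ ha m hm
    let a : Spec (CommRingCat.of Ω) ⟶ pullback (j ≫ U.hom ≫ e) (N x).hom := pullback.lift w m (by
      rw [hm, ← ha]; simp only [Category.assoc])
    exact (mem_good_iff e F σ (s x) (a ≫ testMap e j (N x)) ζ (w ≫ j) m
      (by rw [Category.assoc, testMap_fst, ← Category.assoc, pullback.lift_fst])
      (by rw [Category.assoc, testMap_snd, pullback.lift_snd]) ha hm).1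
      (by rw [Scheme.Hom.comp_apply]; exact hgood x _)
  have hcomp : ∀ x y, F.obj.map (prodFst (N x) (N y)).op (s x) = F.obj.map (prodSnd (N x) (N y)).op (s y) := by
    intro x y
    refine eq_of_agree F fun p => ?_
    let M := Gabber24.prod (N x) (N y)
    obtain ⟨w, hw⟩ := (inferInstance : Surjective (j ≫ U.hom ≫ e)).surj (M.hom p)
    obtain ⟨q, hq₁, hq₂⟩ := Scheme.Pullback.exists_preimage_pullback (f := j ≫ U.hom ≫ e) (g := M.hom) w p hw
    let g := geomPt _ q
    let wq := g ≫ pullback.fst (j ≫ U.hom ≫ e) M.hom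
    let b := g ≫ pullback.snd (j ≫ U.hom ≫ e) M.hom
    let ζ := (wq ≫ j) ≫ U.hom
    have hb : b ≫ M.hom = ζ ≫ e := by
      simp only [b, ζ, wq, Category.assoc, pullback.condition]
    let φ : fib (ζ ≫ e) M := Over.homMk b hb
    rw [show p = fibPt φ by
      show p = b default
      simp only [b, g, Scheme.Hom.comp_apply, geomPt_default, hq₂], mem_agree_iff_germ]
    have h1 := hval x _ wq ζ rfl (b ≫ (prodFst (N x) (N y)).left)
      (by rw [Category.assoc, MorphismProperty.Over.w, hb])
    have h2 := hval y _ wq ζ rfl (b ≫ (prodSnd (N x) (N y)).left)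
      (by rw [Category.assoc, MorphismProperty.Over.w, hb])
    exact ((val_map F _ (prodFst (N x) (N y)) b hb _ _ rfl (s x)).trans
      ((ConcreteCategory.bijective_of_isIso (stalkPull e ζ F)).1 (h1.symm.trans h2))).trans
      (val_map F _ (prodSnd (N x) (N y)) b hb _ _ rfl (s y)).symm
  let toT : ∀ x, N x ⟶ EtCoh.top T := fun x => MorphismProperty.Over.homMk (N x).hom (Category.comp_id _)
  have hS : Sieve.ofArrows N toT ∈ Scheme.smallEtaleTopology T (EtCoh.top T) :=
    (EtSite.mem_et_iff _ _).2 fun x => ⟨N x, toT x, n x, Sieve.ofArrows_mk _ (f := toT) x, hn x⟩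
  have hsh : Presieve.IsSheafFor (F.obj ⋙ forget _) (Presieve.ofArrows N toT) :=
    (Presieve.isSheafFor_iff_generate _).2 (((isSheaf_iff_isSheaf_of_type _ _).1
      ((Presheaf.isSheaf_iff_isSheaf_forget _ F.obj (forget _)).1 F.property)) _ hS)
  obtain ⟨s₀, hs₀, -⟩ := (Presieve.isSheafFor_arrows_iff _ _).1 hsh s (by
    intro x y Z gx gy e'
    let g : Z ⟶ Gabber24.prod (N x) (N y) := MorphismProperty.Over.homMk
      (pullback.lift gx.left gy.left ((MorphismProperty.Over.w gx).trans (MorphismProperty.Over.w gy).symm))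
      ((Category.assoc _ _ _).symm.trans
        ((congrArg (· ≫ (N x).hom) (pullback.lift_fst _ _ _)).trans (MorphismProperty.Over.w gx)))
    have e1 : g ≫ prodFst (N x) (N y) = gx := MorphismProperty.Over.Hom.ext (pullback.lift_fst _ _ _)
    have e2 : g ≫ prodSnd (N x) (N y) = gy := MorphismProperty.Over.Hom.ext (pullback.lift_snd _ _ _)
    have := congrArg (F.obj.map g.op) (hcomp x y)
    show (F.obj ⋙ forget _).map gx.op (s x) = (F.obj ⋙ forget _).map gy.op (s y)
    rw [← e1, ← e2, op_comp, op_comp, Functor.map_comp, Functor.map_comp]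
    exact this)
  refine ⟨s₀, fun Ω _ _ w ζ ha => ?_⟩
  -- test at a geometric point of a piece over the image point
  let x := (ζ ≫ e) default
  obtain ⟨φ, hφ⟩ := Scheme.pointSmallEtaleFiberObjToPreimage_surjective (ζ ≫ e)
    (s₀ := x) rfl (N x) ⟨n x, hn x⟩
  have hm : φ.left ≫ (N x).hom = ζ ≫ e := Over.w φ
  rw [hval x Ω w ζ ha φ.left hm]
  have h2 := val_map F (ζ ≫ e) (toT x) φ.left hm (ζ ≫ e) (Category.comp_id _) hm s₀
  rw [show F.obj.map (toT x).op s₀ = s x from hs₀ x] at h2
  rw [h2]

/-- A section along `j` comes from a global section. -/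
theorem exists_section [UniversallyOpen (j ≫ U.hom ≫ e)] :
    ∃ s₀ : F.obj.obj (op (EtCoh.top T)), ∀ (Ω : Type u) [Field Ω] [IsSepClosed Ω]
      (w : Spec (CommRingCat.of Ω) ⟶ W') (ζ : Spec (CommRingCat.of Ω) ⟶ W) (ha : (w ≫ j) ≫ U.hom = ζ),
      val ((EtCoh.pull e).obj F) ζ (w ≫ j) ha σ =
        stalkPull e ζ F (val F (ζ ≫ e) (ζ ≫ e) (Category.comp_id _) s₀) := by
  haveI : Surjective (j ≫ U.hom ≫ e) := inferInstance
  exact exists_section_of_quotient e F σ j fun N => (pullback.snd (j ≫ U.hom ≫ e) N.hom).isOpenMap.isQuotientMap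
    (pullback.snd (j ≫ U.hom ≫ e) N.hom).continuous (pullback.snd (j ≫ U.hom ≫ e) N.hom).surjective

omit σ in
/-- Pullback along a morphism with geometrically connected fibres whose base changes are quotient maps
is bijective on global sections. -/
theorem bijective_unit_top_of_quotient [GeometricallyConnected e]
    (hq : ∀ N : T.Etale, Topology.IsQuotientMap (pullback.snd e N.hom)) :
    Function.Bijective (((EtCoh.pullPushAdj e).unit.app F).hom.app (op (EtCoh.top T))) := by
  constructor
  · intro s t h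
    refine eq_of_agree F fun v => ?_
    obtain ⟨z, hz⟩ := (surjective_bcFst e (EtCoh.top T)).surj v
    rw [← hz]
    exact (mem_agree_unit e F s t z).1 (by rw [h]; exact agree_self _ _ _)
  intro σ
  let U₀ := (EtCoh.bc e).obj (EtCoh.top T)
  haveI : IsIso U₀.hom := by
    show IsIso (pullback.snd (𝟙 T) e)
    infer_instance
  haveI : GeometricallyConnected ((inv U₀.hom : W ⟶ U₀.left) ≫ U₀.hom ≫ e) := by
    rw [IsIso.inv_hom_id_assoc]; infer_instance
  obtain ⟨s₀, hs₀⟩ := exists_section_of_quotient e F σ (inv U₀.hom : W ⟶ U₀.left)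
    (fun N => by rw [IsIso.inv_hom_id_assoc]; exact hq N)
  refine ⟨s₀, eq_of_agree ((EtCoh.pull e).obj F) (U := U₀) fun a => ?_⟩
  obtain ⟨φ, hφ⟩ := exists_fib U₀ a
  let ζ := geomPt W (U₀.hom a)
  let l : Spec (CommRingCat.of (SeparableClosure (W.residueField (U₀.hom a)))) ⟶ U₀.left := φ.left
  have hl : l ≫ U₀.hom = ζ := Over.w φ
  have hlj : (l ≫ U₀.hom) ≫ (inv U₀.hom : W ⟶ U₀.left) = l := by simp
  have h1 := hs₀ _ (l ≫ U₀.hom) ζ (by rw [hlj, hl])
  rw [← hφ]
  refine (mem_agree_iff_germ ((EtCoh.pull e).obj F) φ _ _).2 ?_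
  have h2 := val_res e F ζ (ζ ≫ e) (Category.comp_id _) l hl (by
    rw [← hl, Category.assoc]
    refine congrArg (l ≫ ·) ?_
    show pullback.fst (𝟙 T) e = pullback.snd (𝟙 T) e ≫ e
    simpa using pullback.condition (f := 𝟙 T) (g := e)) s₀
  rw [← h1] at h2
  refine h2.trans ?_
  exact congrArg (fun x : fib ζ U₀ => germ ζ ((EtCoh.pull e).obj F) x σ) (Over.OverMorphism.ext hlj)

omit σ in
/-- Pullback along a universally open morphism with geometrically connected fibres is bijective on
global sections. -/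
theorem bijective_unit_top [UniversallyOpen e] [GeometricallyConnected e] :
    Function.Bijective (((EtCoh.pullPushAdj e).unit.app F).hom.app (op (EtCoh.top T))) := by
  haveI : Surjective e := inferInstance
  exact bijective_unit_top_of_quotient e F fun N => (pullback.snd e N.hom).isOpenMap.isQuotientMap
    (pullback.snd e N.hom).continuous (pullback.snd e N.hom).surjective

end Groth.Agent.ConnDescent24
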